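import Cfsg.Agent.H6.Cert
import Cfsg.Agent.H6.ON.Pres
import Cfsg.Agent.H6.ON.C1.B0
import Cfsg.Agent.H6.ON.C1.B1
import Cfsg.Agent.H6.ON.C1.B2
import Cfsg.Agent.H6.ON.C1.B3
import Cfsg.Agent.H6.ON.C1.B4
import Cfsg.Agent.H6.ON.C1.B5
import Cfsg.Agent.H6.ON.C1.B6
import Cfsg.Agent.H6.ON.C1.B7
import Cfsg.Agent.H6.ON.C1.B8
import Cfsg.Agent.H6.ON.C1.B9
import Cfsg.Agent.H6.ON.C1.B10

set_option autoImplicit false
set_option maxRecDepth 100000
set_option Elab.async false

namespace Cfsg.H6.ON.C1

def sg : List (List ℕ) := [[], [1], [2], [3], [4], [5], [6], [7], [8], [1], [1], [2], [2], [3], [3], [4], [4], [5], [5], [6], [6]]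

def BL : List ℕ := [0x109, 0x20b, 0x30d, 0x40f, 0x511, 0x613, 0x7070601, 0x2060206, 0x3010301, 0x3060306, 0x4010401, 0x4060406, 0x5010501, 0x4020402, 0x5020502, 0x5030503, 0x8030803040307030704, 0x3080408040304070407, 0x8040804030407040703, 0x4080308030403070307, 0x1060106, 0x10201020102, 0x6010601, 0x60506050605, 0x20302030203, 0x6020602, 0x308030208020308030208, 0x6030603, 0x2040204, 0x404, 0x6040604, 0x1040104, 0x40504050405, 0x408040508050408040508, 0x1030103, 0x702030703020702030703, 0x202, 0x303, 0x606, 0x807, 0x101, 0x708, 0x505, 0x20102010201, 0x1050105, 0x3050305, 0x30203020302, 0x3040304030403040601, 0x705040704050705040704, 0x50605060506, 0x2050205, 0x50405040504, 0x0, 0x1060808, 0x804030208040302080403020804030208040302, 0x1060403040304030403, 0x203040702030407020304070203040702030407, 0x3040304030403040304030403040304, 0x4030403040304030403040304030403]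

def Sub : List (List ℕ) := [[1], [2], [3], [4], [5], [6]]

theorem hA : prepA 129705363632919019776 ON.R sg 27883091610518724965067285990866310486607288992000 BL Sub get gd = true := by decide +kernel

theorem hw : allR (okW BL gwh) 0 229 = true := by decide +kernel

theorem hb : ∀ b, 4 ≤ b → b < 22862 → blk get gs (gwB gwh 229) gd 27883091610518724965067285990866310486607288992000 b = true :=
  (range_join (range_join (range_join (range_join (range_join (allR_range b0 (by norm_num : 4 + 657 = 661)) (allR_range b1 (by norm_num : 661 + 639 = 1300))) (range_join (allR_range b2 (by norm_num : 1300 + 644 = 1944)) (range_join (allR_range b3 (by norm_num : 1944 + 637 = 2581)) (allR_range b4 (by norm_num : 2581 + 647 = 3228))))) (range_join (range_join (allR_range b5 (by norm_num : 3228 + 623 = 3851)) (allR_range b6 (by norm_num : 3851 + 641 = 4492))) (range_join (allR_range b7 (by norm_num : 4492 + 681 = 5173)) (range_join (allR_range b8 (by norm_num : 5173 + 645 = 5818)) (allR_range b9 (by norm_num : 5818 + 627 = 6445)))))) (range_join (range_join (range_join (allR_range b10 (by norm_num : 6445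 + 641 = 7086)) (allR_range b11 (by norm_num : 7086 + 627 = 7713))) (range_join (allR_range b12 (by norm_num : 7713 + 616 = 8329)) (range_join (allR_range b13 (by norm_num : 8329 + 612 = 8941)) (allR_range b14 (by norm_num : 8941 + 658 = 9599))))) (range_join (range_join (allR_range b15 (by norm_num : 9599 + 648 = 10247)) (allR_range b16 (by norm_num : 10247 + 618 = 10865))) (range_join (allR_range b17 (by norm_num : 10865 + 618 = 11483)) (range_join (allR_range b18 (by norm_num : 11483 + 640 = 12123)) (allR_range b19 (by norm_num : 12123 + 631 = 12754))))))) (range_join (range_join (range_join (range_join (allR_range b20 (by norm_num : 12754 + 651 = 13405)) (allR_range b21 (by norm_num : 13405 + 658 = 14063))) (range_join (allR_range b22 (by norm_num : 14063 + 667 = 14730)) (range_join (allR_range b23 (by norm_num : 14730 + 559 = 15289)) (allR_range b24 (by norm_num : 15289 + 459 = 15748))))) (range_join (range_join (allR_range b25 (by norm_num : 15748 + 444 = 16192)) (allR_range b26 (by norm_num : 16192 + 480 = 16672))) (range_join (allR_range b27 (by norm_num : 16672 + 511 = 17183)) (range_join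 (allR_range b28 (by norm_num : 17183 + 495 = 17678)) (allR_range b29 (by norm_num : 17678 + 486 = 18164)))))) (range_join (range_join (range_join (allR_range b30 (by norm_num : 18164 + 480 = 18644)) (allR_range b31 (by norm_num : 18644 + 479 = 19123))) (range_join (allR_range b32 (by norm_num : 19123 + 469 = 19592)) (range_join (allR_range b33 (by norm_num : 19592 + 464 = 20056)) (allR_range b34 (by norm_num : 20056 + 466 = 20522))))) (range_join (range_join (allR_range b35 (by norm_num : 20522 + 459 = 20981)) (range_join (allR_range b36 (by norm_num : 20981 + 458 = 21439)) (allR_range b37 (by norm_num : 21439 + 449 = 21888)))) (range_join (allR_range b38 (by norm_num : 21888 + 445 = 22333)) (range_join (allR_range b39 (by norm_num : 22333 + 441 = 22774)) (allR_range b40 (by norm_num : 22774 + 88 = 22862))))))))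

def X : List (List ℕ) := [[1], [2], [3], [4], [5], [6], [7]]

theorem hC : prepC sg 27883091610518724965067285990866310486607288992000 X 8 122760 1919 = true := by decide +kernel

theorem hc : ∀ t, 0 ≤ t → t < 8 * 1919 → clo get gc 122760 1463424 1919 t = true :=
  (range_join (range_join (range_join (allR_range c0 (by norm_num : 0 + 1562 = 1562)) (allR_range c1 (by norm_num : 1562 + 1562 = 3124))) (range_join (allR_range c2 (by norm_num : 3124 + 1562 = 4686)) (range_join (allR_range c3 (by norm_num : 4686 + 1562 = 6248)) (allR_range c4 (by norm_num : 6248 + 1562 = 7810))))) (range_join (range_join (allR_range c5 (by norm_num : 7810 + 1562 = 9372)) (allR_range c6 (by norm_num : 9372 + 1562 = 10934))) (range_join (allR_range c7 (by norm_num : 10934 + 1562 = 12496)) (range_join (allR_range c8 (by norm_num : 12496 + 1562 = 14058)) (allR_range c9 (by norm_num : 14058 + 1294 = 15352))))))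

theorem cover {G : Type*} [Group G] {ev : ℕ → G} (hev : Good ev 129705363632919019776) (hR : Rels ev ON.R) :
    Cover (gen ev Sub) (gen ev X) 122760 :=
  cert_cover hev hR hA hC hw hb (by norm_num) hc


end Cfsg.H6.ON.C1
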